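import Mathlib
import Groth.Prelude.Def_AlgGrp
import Groth.Agent.H20GIT.Stab
import Groth.Agent.H20Prop.StabLocus
import Groth.Agent.H19Grp.UnramifiedFibres
import Groth.Agent.H19Grp.Cartier
import Groth.Agent.H06Unram.SmoothQF
set_option linter.style.haveILetI false
set_option backward.isDefEq.respectTransparency false

/-! Free actions and trivial stabilisers. -/

universe u

open CategoryTheory CategoryTheory.Limits MonoidalCategory CartesianMonoidalCategory MonObj GrpObj AlgebraicGeometry

namespace Groth.Agent.H23Free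

variable {k : Type u} [Field k] {G X : Over (Spec (CommRingCat.of k))} [GrpObj G] (a : AlgGrp.Action G X)

theorem mono_of_universallyInjective {A B : Scheme.{u}} (π : A ⟶ B) [LocallyOfFiniteType π]
    [FormallyUnramified π] [UniversallyInjective π] : Mono π := by
  haveI : Surjective (pullback.diagonal π) := (UniversallyInjective.iff_diagonal π).1 ‹_›
  haveI : Epi (pullback.diagonal π).base := by
    rw [TopCat.epi_iff_surjective]
    exact (pullback.diagonal π).surjective
  haveI : IsIso (pullback.diagonal π) := IsOpenImmersion.isIso (pullback.diagonal π)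
  exact (pullback.isIso_diagonal_iff π).1 inferInstance

theorem universallyInjective_of_fibres {A B : Scheme.{u}} (π : A ⟶ B)
    (h : ∀ x : B, IsIso (π.fiberToSpecResidueField x)) : UniversallyInjective π := by
  refine ((tfae_universallyInjective π).out 1 0).1 ?_
  intro K _ g₁ g₂ hg
  obtain ⟨x, φ, hφ⟩ : ∃ (x : B) (φ : B.residueField x ⟶ CommRingCat.of K),
      Spec.map φ ≫ B.fromSpecResidueField x = g₁ ≫ π :=
    ⟨_, B.descResidueField (Scheme.stalkClosedPointTo (g₁ ≫ π)),
      Scheme.descResidueField_stalkClosedPointTo_fromSpecResidueField K B (g₁ ≫ π)⟩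
  haveI := h x
  have e1 : g₁ ≫ π = Spec.map φ ≫ B.fromSpecResidueField x := hφ.symm
  have e2 : g₂ ≫ π = Spec.map φ ≫ B.fromSpecResidueField x := hg.symm.trans e1
  let l₁ : Spec (CommRingCat.of K) ⟶ π.fiber x := pullback.lift g₁ (Spec.map φ) e1
  let l₂ : Spec (CommRingCat.of K) ⟶ π.fiber x := pullback.lift g₂ (Spec.map φ) e2
  have : l₁ = l₂ := (cancel_mono (π.fiberToSpecResidueField x)).1
    ((pullback.lift_snd _ _ _).trans (pullback.lift_snd _ _ _).symm)
  have : l₁ ≫ π.fiberι x = l₂ ≫ π.fiberι x := congrArg (· ≫ π.fiberι x) this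
  exact (pullback.lift_fst _ _ _).symm.trans (this.trans (pullback.lift_fst _ _ _))

variable [IsAffine G.left] [LocallyOfFiniteType G.hom] [LocallyOfFiniteType X.hom] [IsSeparated X.hom]

theorem formallyUnramified_stab (hG : CharZero k ∨ (IsFinite G.hom ∧ Etale G.hom))
    [UniversallyInjective (GLinSh.stabTo a (𝟙 X))] : FormallyUnramified (GLinSh.stabTo a (𝟙 X)) := by
  haveI : IsAffineHom G.hom := isAffineHom_of_isAffine _
  rcases hG with hk | ⟨-, hGe⟩
  · refine H19Grp.formallyUnramified_of_fibres _ fun s => ?_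
    obtain ⟨grp, -⟩ := H20GIT.exists_grpObj_stabOver a
    let π := GLinSh.stabTo a (𝟙 X)
    let F : Over (Spec (X.left.residueField s)) :=
      (Over.pullback (X.left.fromSpecResidueField s)).obj (H20GIT.stabOver a)
    letI : GrpObj F := Functor.grpObjObj
    haveI : CharZero (X.left.residueField s) := by
      obtain ⟨φ, -⟩ := Spec.map_surjective (X.left.fromSpecResidueField s ≫ X.hom)
      exact charZero_of_injective_ringHom φ.hom.injective
    haveI : LocallyOfFiniteType (π.fiberToSpecResidueField s) :=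
      inferInstanceAs (LocallyOfFiniteType (pullback.snd π (X.left.fromSpecResidueField s)))
    haveI : LocallyOfFiniteType F.hom := inferInstanceAs (LocallyOfFiniteType (π.fiberToSpecResidueField s))
    haveI : Smooth (π.fiberToSpecResidueField s) :=
      H19Grp.smooth_of_charZero (K := X.left.residueField s) F
    haveI : UniversallyInjective (π.fiberToSpecResidueField s) :=
      MorphismProperty.pullback_snd (P := @UniversallyInjective) _ _ inferInstance
    haveI : QuasiCompact (π.fiberToSpecResidueField s) :=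
      inferInstanceAs (QuasiCompact (pullback.snd π (X.left.fromSpecResidueField s)))
    haveI : LocallyQuasiFinite (π.fiberToSpecResidueField s) :=
      locallyQuasiFinite_iff_finite_preimage_singleton.2 fun y =>
        (Set.subsingleton_singleton.preimage (π.fiberToSpecResidueField s).injective).finite
    haveI : Etale (π.fiberToSpecResidueField s) :=
      (H06Unram.etale_iff_smooth_and_locallyQuasiFinite _).2 ⟨inferInstance, inferInstance⟩
    infer_instance
  · haveI := hGe
    haveI : Etale (snd G X).left := inferInstanceAs (Etale (pullback.snd G.hom X.hom))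
    haveI : IsImmersion (lift (𝟙 X) (𝟙 X)).left := by
      have : IsSplitMono (lift (𝟙 X) (𝟙 X)).left := ⟨⟨(fst X X).left, by rw [← Over.comp_left, lift_fst, Over.id_left]⟩⟩
      have e : (lift (𝟙 X) (𝟙 X)).left = pullback.diagonal X.hom := by
        apply pullback.hom_ext
        · rw [pullback.diagonal_fst]; exact congrArg Over.Hom.left (lift_fst (𝟙 X) (𝟙 X))
        · rw [pullback.diagonal_snd]; exact congrArg Over.Hom.left (lift_snd (𝟙 X) (𝟙 X))
      rw [e]; infer_instance
    rw [← H20GIT.fst_snd_eq]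
    haveI : Mono (pullback.fst (GIT.psi a (𝟙 X)).left (lift (𝟙 X) (𝟙 X)).left) := inferInstance
    haveI : IsIso (pullback.diagonal (pullback.fst (GIT.psi a (𝟙 X)).left (lift (𝟙 X) (𝟙 X)).left)) :=
      (pullback.isIso_diagonal_iff _).2 inferInstance
    exact MorphismProperty.comp_mem _ _ _ inferInstance inferInstance

theorem isIso_stab (hG : CharZero k ∨ (IsFinite G.hom ∧ Etale G.hom))
    [UniversallyInjective (GLinSh.stabTo a (𝟙 X))] : IsIso (GLinSh.stabTo a (𝟙 X)) := by
  haveI : IsAffineHom G.hom := isAffineHom_of_isAffine _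
  haveI := formallyUnramified_stab a hG
  haveI : Mono (GLinSh.stabTo a (𝟙 X)) := mono_of_universallyInjective _
  haveI : IsSplitEpi (GLinSh.stabTo a (𝟙 X)) := ⟨⟨H20Prop.stabUnit a, H20Prop.stabUnit_to a⟩⟩
  exact isIso_of_mono_of_isSplitEpi _

theorem mono_psi [IsIso (GLinSh.stabTo a (𝟙 X))] : Mono (GIT.psi a (𝟙 X)).left := by
  let π := GLinSh.stabTo a (𝟙 X)
  refine ⟨fun {T} g₁ g₂ hg => ?_⟩
  let T' : Over (Spec (CommRingCat.of k)) := Over.mk (g₁ ≫ (G ⊗ X).hom)
  let p₁ : T' ⟶ G ⊗ X := Over.homMk g₁ rfl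
  let p₂ : T' ⟶ G ⊗ X := Over.homMk g₂ (by
    have := congrArg (· ≫ (X ⊗ X).hom) hg
    simp only [Category.assoc, Over.w] at this
    exact this.symm)
  have hp : p₁ ≫ GIT.psi a (𝟙 X) = p₂ ≫ GIT.psi a (𝟙 X) := Over.OverMorphism.ext hg
  have hx : p₁ ≫ snd G X = p₂ ≫ snd G X := by
    have := congrArg (· ≫ snd X X) hp
    simpa [GIT.psi] using this
  have ha : p₁ ≫ a.act = p₂ ≫ a.act := by
    have := congrArg (· ≫ fst X X) hp
    simpa [GIT.psi] using this
  have hdec : ∀ p : T' ⟶ G ⊗ X, lift (p ≫ fst G X) (p ≫ snd G X) = p := fun p => by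
    apply CartesianMonoidalCategory.hom_ext <;> simp
  let g := (p₂ ≫ fst G X)⁻¹ * (p₁ ≫ fst G X)
  let x := p₁ ≫ snd G X
  have hfix : lift g x ≫ a.act = x := by
    rw [H20GIT.act_mul, show lift (p₁ ≫ fst G X) x ≫ a.act = lift (p₂ ≫ fst G X) x ≫ a.act by
      rw [hdec, show x = p₂ ≫ snd G X from hx, hdec, ha], ← H20GIT.act_mul, inv_mul_cancel, H20GIT.act_one]
  have hl : ∀ g' : T' ⟶ G, lift g' x ≫ a.act = x →
      ∃ t : T ⟶ GLinSh.stab a (𝟙 X), t ≫ π = x.left ∧
        t ≫ pullback.fst (GIT.psi a (𝟙 X)).left (lift (𝟙 X) (𝟙 X)).left = (lift g' x).left := by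
    intro g' h
    have e : lift g' x ≫ GIT.psi a (𝟙 X) = x ≫ lift (𝟙 X) (𝟙 X) := by
      apply CartesianMonoidalCategory.hom_ext
      · simpa [GIT.psi] using h
      · simp [GIT.psi]
    exact ⟨pullback.lift (lift g' x).left x.left (congrArg Over.Hom.left e), pullback.lift_snd _ _ _,
      pullback.lift_fst _ _ _⟩
  obtain ⟨t₁, ht₁, ht₁'⟩ := hl g hfix
  obtain ⟨t₂, ht₂, ht₂'⟩ := hl 1 (H20GIT.act_one a x)
  have et : t₁ = t₂ := (cancel_mono π).1 (ht₁.trans ht₂.symm)
  rw [et, ht₂'] at ht₁'
  have eg : g = 1 := by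
    have := congrArg (· ≫ fst G X) (Over.OverMorphism.ext ht₁'.symm : lift g x = lift 1 x)
    simpa using this
  have eg' : p₁ ≫ fst G X = p₂ ≫ fst G X := by
    rw [← _root_.mul_left_cancel_iff (a := (p₂ ≫ fst G X)⁻¹), inv_mul_cancel]
    exact eg
  have : p₁ = p₂ := by rw [← hdec p₁, ← hdec p₂, eg', hx]
  exact congrArg Over.Hom.left this

theorem free_iff (hG : CharZero k ∨ (IsFinite G.hom ∧ Etale G.hom)) :
    IsClosedImmersion (GIT.psi a (𝟙 X)).left ↔
      IsProper (GIT.psi a (𝟙 X)).left ∧ UniversallyInjective (GLinSh.stabTo a (𝟙 X)) := by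
  constructor
  · intro h
    exact ⟨inferInstance, MorphismProperty.pullback_snd (P := @UniversallyInjective) _ _ inferInstance⟩
  · rintro ⟨hp, hu⟩
    haveI := isIso_stab a hG
    haveI := mono_psi a
    rw [IsClosedImmersion.eq_proper_inf_monomorphisms]
    exact ⟨hp, MorphismProperty.monomorphisms.infer_property _⟩

theorem stab_iff (hG : CharZero k ∨ (IsFinite G.hom ∧ Etale G.hom)) :
    UniversallyInjective (GLinSh.stabTo a (𝟙 X)) ↔
      ∀ x : X.left, IsIso ((GLinSh.stabTo a (𝟙 X)).fiberToSpecResidueField x) := by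
  refine ⟨fun _ x => ?_, universallyInjective_of_fibres _⟩
  haveI := isIso_stab a hG
  exact inferInstanceAs (IsIso (pullback.snd (GLinSh.stabTo a (𝟙 X)) (X.left.fromSpecResidueField x)))

end Groth.Agent.H23Free
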